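import Mathlib.AlgebraicGeometry.EllipticCurve.Affine.Point
import Mathlib.RingTheory.LocalRing.MaximalIdeal.Basic

/-!
# The `(z, w)` chart of a cuspidally reduced Weierstrass curve

`z = -x/y`, `w = -1/y`: on points with `z, w` in the base ring addition is `+` on `z` to first order.
-/

set_option autoImplicit false

universe u v

namespace Groth.Agent.CStk17.Weier

open IsLocalRing WeierstrassCurve

variable {R : Type u} [CommRing R] [IsLocalRing R]

/-- All coefficients are in the maximal ideal. -/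
structure Cuspidal (W : WeierstrassCurve R) : Prop where
  a₁ : W.a₁ ∈ maximalIdeal R
  a₂ : W.a₂ ∈ maximalIdeal R
  a₃ : W.a₃ ∈ maximalIdeal R
  a₄ : W.a₄ ∈ maximalIdeal R
  a₆ : W.a₆ ∈ maximalIdeal R

theorem isUnit_one_sub {a : R} (h : a ∈ maximalIdeal R) : IsUnit (1 - a) :=
  isUnit_one_sub_self_of_mem_nonunits a h

/-- The equation in the chart. -/
def ChartEq (W : WeierstrassCurve R) (z w : R) : Prop :=
  w = z ^ 3 + W.a₁ * z * w + W.a₂ * z ^ 2 * w + W.a₃ * w ^ 2 + W.a₄ * z * w ^ 2 + W.a₆ * w ^ 3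

variable {W : WeierstrassCurve R}

theorem ChartEq.mem (hW : Cuspidal W) {z w : R} (h : ChartEq W z w) {J : Ideal R} (hz : z ∈ J) : w ∈ J := by
  obtain ⟨v, hv⟩ := isUnit_one_sub (a := W.a₁ * z + W.a₂ * z ^ 2 + W.a₃ * w + W.a₄ * z * w + W.a₆ * w ^ 2)
    (Ideal.add_mem _ (Ideal.add_mem _ (Ideal.add_mem _ (Ideal.add_mem _ (Ideal.mul_mem_right _ _ hW.a₁)
      (Ideal.mul_mem_right _ _ hW.a₂)) (Ideal.mul_mem_right _ _ hW.a₃))
      (Ideal.mul_mem_right _ _ (Ideal.mul_mem_right _ _ hW.a₄))) (Ideal.mul_mem_right _ _ hW.a₆))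
  have : w = ((v⁻¹ : Rˣ) : R) * z ^ 2 * z := by
    unfold ChartEq at h
    have h1 : (v : R) * w = z ^ 2 * z := by rw [hv]; linear_combination h
    rw [mul_assoc, ← h1, Units.inv_mul_cancel_left]
  exact this ▸ Ideal.mul_mem_left _ _ hz

variable {K : Type v} [Field K] [Algebra R K]

/-- `Par W Q z`: the point has chart coordinate `z`. -/
def Par (W : WeierstrassCurve R) : (W.map (algebraMap R K)).toAffine.Point → R → Prop
  | .zero, z => z = 0
  | .some x y _, z => ∃ w : R, algebraMap R K z * y = -x ∧ algebraMap R K w * y = -1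

theorem chartEq_of_point [FaithfulSMul R K] {x y : K} (h : (W.map (algebraMap R K)).toAffine.Equation x y) {z w : R}
    (hz : algebraMap R K z * y = -x) (hw : algebraMap R K w * y = -1) : ChartEq W z w := by
  rw [WeierstrassCurve.Affine.equation_iff] at h
  have hy : y ≠ 0 := fun h0 => by simp [h0] at hw
  apply FaithfulSMul.algebraMap_injective R K
  have hz' : algebraMap R K z = -x / y := (eq_div_iff hy).2 hz
  have hw' : algebraMap R K w = -1 / y := (eq_div_iff hy).2 hw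
  simp only [map_add, map_mul, map_pow, hz', hw']
  simp only [WeierstrassCurve.map_a₁, WeierstrassCurve.map_a₂, WeierstrassCurve.map_a₃,
    WeierstrassCurve.map_a₄, WeierstrassCurve.map_a₆] at h
  field_simp
  linear_combination -h

theorem Par.unique [FaithfulSMul R K] {Q : (W.map (algebraMap R K)).toAffine.Point} {z z' : R}
    (h : Par W Q z) (h' : Par W Q z') : z = z' := by
  cases Q with
  | zero => exact Eq.trans (h : z = 0) (h' : z' = 0).symm
  | some x y hn =>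
    obtain ⟨w, hz, hw⟩ := h
    obtain ⟨w', hz', -⟩ := h'
    have hy : y ≠ 0 := fun h0 => by simp [h0] at hw
    exact FaithfulSMul.algebraMap_injective R K (mul_right_cancel₀ hy (hz.trans hz'.symm))

/-- The third point of a line in the chart. -/
theorem third (a₁ a₂ a₃ a₄ a₆ l ν z₁ z₂ z₃ x₁ x₂ L : K)
    (hν : ν ≠ 0) (hw₁ : l * z₁ + ν ≠ 0) (hw₂ : l * z₂ + ν ≠ 0) (hD : 1 + a₂ * l + a₄ * l ^ 2 + a₆ * l ^ 3 ≠ 0)
    (hx₁ : x₁ * (l * z₁ + ν) = z₁) (hx₂ : x₂ * (l * z₂ + ν) = z₂) (hL : L * ν = l)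
    (hg : (1 + a₂ * l + a₄ * l ^ 2 + a₆ * l ^ 3) * z₁ ^ 3 +
      (a₁ * l + a₂ * ν + a₃ * l ^ 2 + 2 * a₄ * l * ν + 3 * a₆ * l ^ 2 * ν) * z₁ ^ 2 +
      (a₁ * ν + 2 * a₃ * l * ν + a₄ * ν ^ 2 + 3 * a₆ * l * ν ^ 2 - l) * z₁ + (a₃ * ν ^ 2 + a₆ * ν ^ 3 - ν) = 0)
    (hG : (1 + a₂ * l + a₄ * l ^ 2 + a₆ * l ^ 3) * (z₁ ^ 2 + z₁ * z₂ + z₂ ^ 2) +
      (a₁ * l + a₂ * ν + a₃ * l ^ 2 + 2 * a₄ * l * ν + 3 * a₆ * l ^ 2 * ν) * (z₁ + z₂) +
      (a₁ * ν + 2 * a₃ * l * ν + a₄ * ν ^ 2 + 3 * a₆ * l * ν ^ 2 - l) = 0)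
    (hz₃ : (1 + a₂ * l + a₄ * l ^ 2 + a₆ * l ^ 3) * (z₁ + z₂ + z₃) +
      (a₁ * l + a₂ * ν + a₃ * l ^ 2 + 2 * a₄ * l * ν + 3 * a₆ * l ^ 2 * ν) = 0) :
    (L ^ 2 + a₁ * L - a₂ - x₁ - x₂) * (l * z₃ + ν) = z₃ := by
  set D := 1 + a₂ * l + a₄ * l ^ 2 + a₆ * l ^ 3 with hDdef
  have key : ν ^ 2 * (l * z₁ + ν) * (l * z₂ + ν) * D * ((L ^ 2 + a₁ * L - a₂ - x₁ - x₂) * (l * z₃ + ν) - z₃) = 0 := by
    set A := l ^ 2 + a₁ * l * ν - a₂ * ν ^ 2 with hA
    linear_combination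
      -(ν ^ 2 * D * (l * z₂ + ν) * (l * z₃ + ν)) * hx₁ - (ν ^ 2 * D * (l * z₁ + ν) * (l * z₃ + ν)) * hx₂ +
        D * ((l * z₁ + ν) * (l * z₂ + ν) * (l * z₃ + ν)) * (L * ν + l + a₁ * ν) * hL -
        (3 * l ^ 2 * ν ^ 2 - A * l ^ 3) * (hg - z₁ * hG + z₁ * z₂ * hz₃) -
        (2 * l * ν ^ 3 - A * l ^ 2 * ν) * (-hG + (z₁ + z₂) * hz₃) -
        (ν ^ 4 - A * l * ν ^ 2) * hz₃
  have h0 : ν ^ 2 * (l * z₁ + ν) * (l * z₂ + ν) * D ≠ 0 :=
    mul_ne_zero (mul_ne_zero (mul_ne_zero (pow_ne_zero 2 hν) hw₁) hw₂) hD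
  exact sub_eq_zero.1 ((mul_eq_zero.1 key).resolve_left h0)

/-- Addition is addition of the chart coordinate, to first order. -/
theorem Par.add [FaithfulSMul R K] [DecidableEq K] (hW : Cuspidal W) {J : Ideal R}
    {Q₁ Q₂ : (W.map (algebraMap R K)).toAffine.Point} {z₁ z₂ : R}
    (h₁ : Par W Q₁ z₁) (h₂ : Par W Q₂ z₂) (hz₁ : z₁ ∈ J) (hz₂ : z₂ ∈ J) :
    ∃ z, Par W (Q₁ + Q₂) z ∧ z ∈ J ∧ z - (z₁ + z₂) ∈ maximalIdeal R * J := by
  cases Q₁ with
  | zero =>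
    obtain rfl : z₁ = 0 := h₁
    refine ⟨z₂, ?_, hz₂, by simp⟩
    rw [← WeierstrassCurve.Affine.Point.zero_def, zero_add]; exact h₂
  | some x₁ y₁ n₁ =>
  cases Q₂ with
  | zero =>
    obtain rfl : z₂ = 0 := h₂
    refine ⟨z₁, ?_, hz₁, by simp⟩
    rw [← WeierstrassCurve.Affine.Point.zero_def, add_zero]; exact h₁
  | some x₂ y₂ n₂ =>
  obtain ⟨w₁, hz₁', hw₁'⟩ := h₁
  obtain ⟨w₂, hz₂', hw₂'⟩ := h₂
  have c₁ := chartEq_of_point n₁.1 hz₁' hw₁'
  have c₂ := chartEq_of_point n₂.1 hz₂' hw₂'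
  have hwJ₁ := c₁.mem hW hz₁
  have hwJ₂ := c₂.mem hW hz₂
  have hy₁ : y₁ ≠ 0 := fun h0 => by simp [h0] at hw₁'
  have hy₂ : y₂ ≠ 0 := fun h0 => by simp [h0] at hw₂'
  by_cases hneg : x₁ = x₂ ∧ y₁ = (W.map (algebraMap R K)).toAffine.negY x₂ y₂
  · refine ⟨0, ?_, J.zero_mem, ?_⟩
    · rw [WeierstrassCurve.Affine.Point.add_of_Y_eq hneg.1 hneg.2]; rfl
    have hsum : z₁ + z₂ = W.a₁ * (z₁ * z₂) + W.a₃ * (w₁ * z₂) := by
      apply FaithfulSMul.algebraMap_injective R K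
      obtain ⟨hx, hy⟩ := hneg
      simp only [map_add, map_mul, (eq_div_iff hy₁).2 hz₁', (eq_div_iff hy₂).2 hz₂', (eq_div_iff hy₁).2 hw₁']
      simp only [WeierstrassCurve.Affine.negY, WeierstrassCurve.map_a₁, WeierstrassCurve.map_a₃] at hy
      subst hx
      field_simp
      linear_combination -x₁ * hy
    rw [zero_sub, hsum, neg_add, ← sub_eq_add_neg]
    exact Ideal.sub_mem _ ((maximalIdeal R * J).neg_mem (Ideal.mul_mem_mul hW.a₁ (J.mul_mem_left _ hz₂)))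
      (Ideal.mul_mem_mul hW.a₃ (J.mul_mem_left _ hz₂))
  · -- the slope in the chart
    set N₀ := z₁ ^ 2 + z₁ * z₂ + z₂ ^ 2 + W.a₁ * w₁ + W.a₂ * (z₁ + z₂) * w₁ + W.a₄ * w₁ ^ 2 with hN₀
    obtain ⟨D₀, hD₀⟩ := isUnit_one_sub (a := W.a₁ * z₂ + W.a₂ * z₂ ^ 2 + W.a₃ * (w₁ + w₂) +
      W.a₄ * z₂ * (w₁ + w₂) + W.a₆ * (w₁ ^ 2 + w₁ * w₂ + w₂ ^ 2))
      (Ideal.add_mem _ (Ideal.add_mem _ (Ideal.add_mem _ (Ideal.add_mem _ (Ideal.mul_mem_right _ _ hW.a₁)
        (Ideal.mul_mem_right _ _ hW.a₂)) (Ideal.mul_mem_right _ _ hW.a₃))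
        (Ideal.mul_mem_right _ _ (Ideal.mul_mem_right _ _ hW.a₄))) (Ideal.mul_mem_right _ _ hW.a₆))
    set l := N₀ * ((D₀⁻¹ : Rˣ) : R) with hldef
    have hl : l * (D₀ : R) = N₀ := by rw [hldef, mul_assoc, Units.inv_mul, mul_one]
    have hlJ : l ∈ J := Ideal.mul_mem_right _ _ (J.add_mem (J.add_mem (J.add_mem (J.add_mem (J.add_mem
      (J.pow_mem_of_mem hz₁ 2 two_pos) (J.mul_mem_left _ hz₂)) (J.pow_mem_of_mem hz₂ 2 two_pos))
      (J.mul_mem_left _ hwJ₁)) (J.mul_mem_left _ hwJ₁)) (J.mul_mem_left _ (J.pow_mem_of_mem hwJ₁ 2 two_pos)))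
    set ν := w₁ - l * z₁ with hνdef
    have hνJ : ν ∈ J := J.sub_mem hwJ₁ (J.mul_mem_left _ hz₁)
    have e₁ : w₁ = l * z₁ + ν := by rw [hνdef]; ring
    have e₂ : w₂ = l * z₂ + ν := by
      have h0 : (D₀ : R) * ((w₁ - w₂) - l * (z₁ - z₂)) = 0 := by
        rw [mul_sub, ← mul_assoc, mul_comm _ l, hl, hD₀, hN₀]
        unfold ChartEq at c₁ c₂
        linear_combination c₁ - c₂
      have := (Units.mul_right_eq_zero D₀).1 h0
      linear_combination -this - hνdef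
    obtain ⟨D, hD⟩ := isUnit_one_sub (a := -(W.a₂ * l + W.a₄ * l ^ 2 + W.a₆ * l ^ 3))
      (Ideal.neg_mem_iff _ |>.2 (Ideal.add_mem _ (Ideal.add_mem _ (Ideal.mul_mem_right _ _ hW.a₂)
        (Ideal.mul_mem_right _ _ hW.a₄)) (Ideal.mul_mem_right _ _ hW.a₆)))
    set N := W.a₁ * l + W.a₂ * ν + W.a₃ * l ^ 2 + 2 * W.a₄ * l * ν + 3 * W.a₆ * l ^ 2 * ν with hN
    have hNJ : N ∈ maximalIdeal R * J := by
      refine Ideal.add_mem _ (Ideal.add_mem _ (Ideal.add_mem _ (Ideal.add_mem _ (Ideal.mul_mem_mul hW.a₁ hlJ)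
        (Ideal.mul_mem_mul hW.a₂ hνJ)) (Ideal.mul_mem_mul hW.a₃ (J.pow_mem_of_mem hlJ 2 two_pos))) ?_) ?_
      · exact Ideal.mul_mem_mul (Ideal.mul_mem_right _ _ (Ideal.mul_mem_left _ _ hW.a₄)) hνJ
      · exact Ideal.mul_mem_mul (Ideal.mul_mem_right _ _ (Ideal.mul_mem_left _ _ hW.a₆)) hνJ
    set z₃ := -z₁ - z₂ - N * ((D⁻¹ : Rˣ) : R) with hz₃def
    set w₃ := l * z₃ + ν with hw₃def
    have hz₃J : z₃ ∈ J := J.sub_mem (J.sub_mem (J.neg_mem hz₁) hz₂)
      (J.mul_mem_right _ (Ideal.mul_le_right hNJ))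
    have hw₃J : w₃ ∈ J := J.add_mem (J.mul_mem_left _ hz₃J) hνJ
    obtain ⟨U, hU⟩ := isUnit_one_sub (a := W.a₁ * z₃ + W.a₃ * w₃)
      (Ideal.add_mem _ (Ideal.mul_mem_right _ _ hW.a₁) (Ideal.mul_mem_right _ _ hW.a₃))
    have hD' : (D : R) = 1 + W.a₂ * l + W.a₄ * l ^ 2 + W.a₆ * l ^ 3 := by rw [hD]; ring
    have hz₃ : (D : R) * (z₁ + z₂ + z₃) + N = 0 := by
      rw [hz₃def]
      linear_combination -N * D.mul_inv
    have hg : (D : R) * z₁ ^ 3 + N * z₁ ^ 2 +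
        (W.a₁ * ν + 2 * W.a₃ * l * ν + W.a₄ * ν ^ 2 + 3 * W.a₆ * l * ν ^ 2 - l) * z₁ +
        (W.a₃ * ν ^ 2 + W.a₆ * ν ^ 3 - ν) = 0 := by
      have h := c₁; unfold ChartEq at h; rw [e₁] at h
      rw [hD', hN]; linear_combination -h
    have hG : (D : R) * (z₁ ^ 2 + z₁ * z₂ + z₂ ^ 2) + N * (z₁ + z₂) +
        (W.a₁ * ν + 2 * W.a₃ * l * ν + W.a₄ * ν ^ 2 + 3 * W.a₆ * l * ν ^ 2 - l) = 0 := by
      have h := hl; rw [hD₀, hN₀, e₁, e₂] at h
      rw [hD', hN]; linear_combination -h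
    -- back to the affine coordinates
    let f := algebraMap R K
    have p₁ : f ν * y₁ = f l * x₁ - 1 := by
      have := congrArg f e₁; rw [map_add, map_mul] at this
      linear_combination hw₁' - y₁ * this - f l * hz₁'
    have p₂ : f ν * y₂ = f l * x₂ - 1 := by
      have := congrArg f e₂; rw [map_add, map_mul] at this
      linear_combination hw₂' - y₂ * this - f l * hz₂'
    have hslope : f ν ≠ 0 ∧
        (W.map f).toAffine.slope x₁ x₂ y₁ y₂ * f ν = f l := by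
      by_cases hx : x₁ = x₂
      · have hny : y₁ ≠ (W.map f).toAffine.negY x₂ y₂ := fun h => hneg ⟨hx, h⟩
        have hyy := WeierstrassCurve.Affine.Y_eq_of_Y_ne n₁.1 n₂.1 hx hny
        subst hx; subst hyy
        have hH : y₁ - (W.map f).toAffine.negY x₁ y₁ ≠ 0 := sub_ne_zero.2 hny
        rw [WeierstrassCurve.Affine.slope_of_Y_ne rfl hny]
        have hzz : z₁ = z₂ := FaithfulSMul.algebraMap_injective R K (mul_right_cancel₀ hy₁ (hz₁'.trans hz₂'.symm))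
        have hww : w₁ = w₂ := FaithfulSMul.algebraMap_injective R K (mul_right_cancel₀ hy₁ (hw₁'.trans hw₂'.symm))
        have h := congrArg f hl
        rw [hD₀, hN₀, ← hzz, ← hww] at h
        simp only [map_mul, map_sub, map_one, map_add, map_pow] at h
        simp only [f, (eq_div_iff hy₁).2 hz₁', (eq_div_iff hy₁).2 hw₁'] at h
        have heq := (WeierstrassCurve.Affine.equation_iff _ _).1 n₁.1
        simp only [WeierstrassCurve.map_a₁, WeierstrassCurve.map_a₂, WeierstrassCurve.map_a₃,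
          WeierstrassCurve.map_a₄, WeierstrassCurve.map_a₆] at heq
        field_simp at h
        set G := 3 * x₁ ^ 2 + 2 * f W.a₂ * x₁ + f W.a₄ - f W.a₁ * y₁ with hGdef
        set H := y₁ - (W.map f).toAffine.negY x₁ y₁ with hHdef
        have hH' : H = 2 * y₁ + f W.a₁ * x₁ + f W.a₃ := by
          simp only [hHdef, WeierstrassCurve.Affine.negY, WeierstrassCurve.map_a₁, WeierstrassCurve.map_a₃, f]; ring
        have hlG : f l * (x₁ * G - y₁ * H) = G := by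
          rw [hGdef, hH']
          linear_combination h - 3 * f l * heq
        have hν0 : f ν ≠ 0 := fun h0 => by
          rw [h0, zero_mul] at p₁
          have : f l * (y₁ * H) = 0 := by linear_combination G * (-p₁) - hlG
          rcases mul_eq_zero.1 this with h' | h'
          · rw [h'] at p₁; simp at p₁
          · exact hH ((mul_eq_zero.1 h').resolve_left hy₁)
        refine ⟨hν0, ?_⟩
        have hG' : f ν * G = f l * H := by
          apply mul_left_cancel₀ hy₁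
          linear_combination G * p₁ + hlG
        simp only [WeierstrassCurve.map_a₁, WeierstrassCurve.map_a₂, WeierstrassCurve.map_a₄]
        rw [div_mul_eq_mul_div, div_eq_iff hH]
        linear_combination hG'
      · have hd : x₁ - x₂ ≠ 0 := sub_ne_zero.2 hx
        rw [WeierstrassCurve.Affine.slope_of_X_ne hx]
        refine ⟨fun h0 => hd ?_, ?_⟩
        · rw [h0, zero_mul] at p₁ p₂
          have hl0 : f l ≠ 0 := fun h' => by rw [h'] at p₁; simp at p₁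
          exact (mul_eq_zero.1 (show f l * (x₁ - x₂) = 0 by linear_combination p₂ - p₁)).resolve_left hl0
        · rw [div_mul_eq_mul_div, div_eq_iff hd]
          linear_combination p₁ - p₂
    obtain ⟨hν0, hL⟩ := hslope
    set L := (W.map f).toAffine.slope x₁ x₂ y₁ y₂ with hLdef
    have e₁' : f w₁ = f l * f z₁ + f ν := by rw [e₁, map_add, map_mul]
    have e₂' : f w₂ = f l * f z₂ + f ν := by rw [e₂, map_add, map_mul]
    have hw0 : ∀ {w : R} {y : K}, f w * y = -1 → f w ≠ 0 := fun h h0 => by rw [h0, zero_mul] at h; simp at h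
    set x₃ := (W.map f).toAffine.addX x₁ x₂ L with hx₃
    have hx3 : x₃ * f w₃ = f z₃ := by
      simp only [hx₃, WeierstrassCurve.Affine.addX, WeierstrassCurve.map_a₁, WeierstrassCurve.map_a₂, hw₃def,
        map_add, map_mul]
      refine third (f W.a₁) (f W.a₂) (f W.a₃) (f W.a₄) (f W.a₆) (f l) (f ν) (f z₁) (f z₂) (f z₃) x₁ x₂ L hν0
        (e₁' ▸ hw0 hw₁') (e₂' ▸ hw0 hw₂') ?_ ?_ ?_ hL ?_ ?_ ?_
      · have h : f (D : R) ≠ 0 := (D.isUnit.map f).ne_zero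
        simpa [hD'] using h
      · apply mul_right_cancel₀ hy₁
        rw [← e₁']; linear_combination x₁ * hw₁' - hz₁'
      · apply mul_right_cancel₀ hy₂
        rw [← e₂']; linear_combination x₂ * hw₂' - hz₂'
      · simpa [hD', hN, map_ofNat] using congrArg f hg
      · simpa [hD', hN, map_ofNat] using congrArg f hG
      · simpa [hD', hN, map_ofNat] using congrArg f hz₃
    set y₃' := (W.map f).toAffine.negAddY x₁ x₂ y₁ L with hy₃'
    have p₃ : f ν * y₃' = f l * x₃ - 1 := by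
      simp only [hy₃', WeierstrassCurve.Affine.negAddY, ← hx₃]
      linear_combination (x₃ - x₁) * hL + p₁
    have hwy : f w₃ * y₃' = -1 := by
      apply mul_left_cancel₀ hν0
      have : f w₃ = f l * f z₃ + f ν := by rw [hw₃def, map_add, map_mul]
      linear_combination f w₃ * p₃ + f l * hx3 - this
    have hzy : f z₃ * y₃' = -x₃ := by linear_combination x₃ * hwy - y₃' * hx3
    set Z := -z₃ * ((U⁻¹ : Rˣ) : R) with hZ
    have hu : f (U : R) * f ((U⁻¹ : Rˣ) : R) = 1 := by rw [← map_mul, Units.mul_inv, map_one]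
    have hY3 : (W.map f).toAffine.addY x₁ x₂ y₁ L * f w₃ = f (U : R) := by
      simp only [WeierstrassCurve.Affine.addY, WeierstrassCurve.Affine.negY, ← hy₃', ← hx₃, hU,
        WeierstrassCurve.map_a₁, WeierstrassCurve.map_a₃, map_sub, map_one, map_add, map_mul]
      linear_combination -hwy - f W.a₁ * hx3
    refine ⟨Z, ?_, ?_, ?_⟩
    · rw [WeierstrassCurve.Affine.Point.add_some hneg]
      refine ⟨-w₃ * ((U⁻¹ : Rˣ) : R), ?_, ?_⟩ <;> simp only [hZ, map_mul, map_neg]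
      · linear_combination -f ((U⁻¹ : Rˣ) : R) * (W.map f).toAffine.addY x₁ x₂ y₁ L * (-hx3) -
          x₃ * f ((U⁻¹ : Rˣ) : R) * hY3 - x₃ * hu
      · linear_combination -f ((U⁻¹ : Rˣ) : R) * hY3 - hu
    · exact J.mul_mem_right _ (J.neg_mem hz₃J)
    · have hcon : Z - (z₁ + z₂) = -z₃ * ((U⁻¹ : Rˣ) : R) * (1 - (U : R)) + N * ((D⁻¹ : Rˣ) : R) := by
        rw [hZ]; linear_combination hz₃def + (-z₃) * U.inv_mul
      rw [hcon]
      refine Ideal.add_mem _ ?_ (Ideal.mul_mem_right _ _ hNJ)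
      rw [hU, sub_sub_cancel, mul_comm _ (W.a₁ * z₃ + W.a₃ * w₃)]
      exact Ideal.mul_mem_mul (Ideal.add_mem _ (Ideal.mul_mem_right _ _ hW.a₁) (Ideal.mul_mem_right _ _ hW.a₃))
        (J.mul_mem_right _ (J.neg_mem hz₃J))

/-- A point with a chart coordinate has no torsion prime to the residue characteristic. -/
theorem Par.eq_zero [FaithfulSMul R K] [DecidableEq K] (hW : Cuspidal W)
    {Q : (W.map (algebraMap R K)).toAffine.Point} {z : R} (h : Par W Q z) (m : ℕ)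
    (hm : IsUnit (m : R)) (hQ : m • Q = 0) : Q = 0 := by
  set J := Ideal.span {z} with hJ
  have hz : z ∈ J := Ideal.mem_span_singleton_self z
  have hk : ∀ k : ℕ, ∃ t, Par W (k • Q) t ∧ t ∈ J ∧ t - k * z ∈ maximalIdeal R * J := by
    intro k
    induction k with
    | zero => exact ⟨0, by rw [zero_smul]; rfl, J.zero_mem, by simp⟩
    | succ k ih =>
      obtain ⟨t, ht, htJ, htc⟩ := ih
      obtain ⟨t', ht', htJ', htc'⟩ := ht.add hW h htJ hz
      refine ⟨t', by rw [succ_nsmul]; exact ht', htJ', ?_⟩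
      have : t' - ((k + 1 : ℕ) : R) * z = (t' - (t + z)) + (t - k * z) := by push_cast; ring
      rw [this]; exact Ideal.add_mem _ htc' htc
  obtain ⟨t, ht, -, htc⟩ := hk m
  rw [hQ] at ht
  obtain rfl : t = 0 := ht
  rw [zero_sub, Ideal.neg_mem_iff, hJ, Ideal.mem_mul_span_singleton] at htc
  obtain ⟨a, ha, e⟩ := htc
  obtain ⟨m', hm'⟩ := hm
  have hz0 : z = 0 := by
    have h1 : IsUnit ((m : R) - a) := by
      rw [← hm', show (m' : R) - a = m' * (1 - ((m'⁻¹ : Rˣ) : R) * a) by rw [mul_sub, mul_one, Units.mul_inv_cancel_left]]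
      exact m'.isUnit.mul (isUnit_one_sub (Ideal.mul_mem_left _ _ ha))
    exact (IsUnit.mul_right_eq_zero h1).1 (by linear_combination -e)
  cases Q with
  | zero => rfl
  | some x y hn =>
    exfalso
    obtain ⟨w, hwz, hww⟩ := h
    have := (chartEq_of_point hn.1 hwz hww).mem hW (J := ⊥) (Ideal.mem_bot.2 hz0)
    rw [Ideal.mem_bot.1 this, map_zero, zero_mul] at hww
    simp at hww

end Groth.Agent.CStk17.Weier
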