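import Mathlib.AlgebraicGeometry.EllipticCurve.VariableChange
import Mathlib.FieldTheory.IsAlgClosed.Basic

/-!
# Cuspidal cubics
-/

set_option autoImplicit false

universe u

namespace Groth.Agent.CStk17.Weier

open WeierstrassCurve

variable {k : Type u} [Field k] [IsAlgClosed k]

/-- A singular point of a cubic with `Δ = c₄ = 0`. -/
theorem exists_singular (W : WeierstrassCurve k) (hΔ : W.Δ = 0) (hc : W.c₄ = 0) :
    ∃ x y : k, y ^ 2 + W.a₁ * x * y + W.a₃ * y - (x ^ 3 + W.a₂ * x ^ 2 + W.a₄ * x + W.a₆) = 0 ∧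
      W.a₁ * y - (3 * x ^ 2 + 2 * W.a₂ * x + W.a₄) = 0 ∧ 2 * y + W.a₁ * x + W.a₃ = 0 := by
  by_cases h2 : (2 : k) = 0
  · have ha1 : W.a₁ = 0 := pow_eq_zero_iff four_ne_zero |>.1 (by
      simp only [c₄, b₂, b₄] at hc
      linear_combination hc - (4 * W.a₁ ^ 2 * W.a₂ + 8 * W.a₂ ^ 2 - 24 * W.a₄ - 12 * W.a₁ * W.a₃) * h2)
    have ha3 : W.a₃ = 0 := pow_eq_zero_iff four_ne_zero |>.1 (by
      simp only [Δ, b₂, b₄, b₆, b₈, ha1] at hΔ
      linear_combination hΔ - (-8 * W.a₂ ^ 2 * (4 * W.a₂ * W.a₆ + W.a₂ * W.a₃ ^ 2 - W.a₄ ^ 2) - 32 * W.a₄ ^ 3 -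
        14 * W.a₃ ^ 4 - 108 * W.a₃ ^ 2 * W.a₆ - 216 * W.a₆ ^ 2 + 36 * W.a₂ * W.a₄ * (W.a₃ ^ 2 + 4 * W.a₆)) * h2)
    obtain ⟨x, hx⟩ := IsAlgClosed.exists_pow_nat_eq (-W.a₄) (n := 2) two_pos
    obtain ⟨y, hy⟩ := IsAlgClosed.exists_pow_nat_eq (x ^ 3 + W.a₂ * x ^ 2 + W.a₄ * x + W.a₆) (n := 2) two_pos
    refine ⟨x, y, by rw [ha1, ha3]; linear_combination hy, ?_, by rw [ha1, ha3]; linear_combination y * h2⟩
    rw [ha1]; linear_combination -3 * hx + (W.a₄ - W.a₂ * x) * h2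
  · suffices h : ∃ x : k, 4 * x ^ 3 + W.b₂ * x ^ 2 + 2 * W.b₄ * x + W.b₆ = 0 ∧
        12 * x ^ 2 + 2 * W.b₂ * x + 2 * W.b₄ = 0 by
      obtain ⟨x, hg, hg'⟩ := h
      refine ⟨x, -(W.a₁ * x + W.a₃) / 2, ?_, ?_, ?_⟩
      · simp only [b₂, b₄, b₆] at hg
        field_simp
        linear_combination -hg
      · simp only [b₂, b₄] at hg'
        field_simp
        refine mul_left_cancel₀ h2 ?_
        linear_combination -hg'
      · field_simp; ring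
    by_cases h3 : (3 : k) = 0
    · have hb2 : W.b₂ = 0 := pow_eq_zero_iff two_ne_zero |>.1 (by
        simp only [c₄] at hc; linear_combination hc + 8 * W.b₄ * h3)
      have hb4 : W.b₄ = 0 := pow_eq_zero_iff three_ne_zero |>.1 (by
        simp only [Δ, hb2] at hΔ
        linear_combination hΔ + (3 * W.b₄ ^ 3 + 9 * W.b₆ ^ 2) * h3)
      obtain ⟨x, hx⟩ := IsAlgClosed.exists_pow_nat_eq (-W.b₆) (n := 3) (by norm_num)
      refine ⟨x, ?_, ?_⟩
      · rw [hb2, hb4]; linear_combination hx + x ^ 3 * h3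
      · rw [hb2, hb4]; linear_combination 4 * x ^ 2 * h3
    · have h12 : (12 : k) ≠ 0 := by
        rw [show (12 : k) = 2 * 2 * 3 by norm_num]; exact mul_ne_zero (mul_ne_zero h2 h2) h3
      have hc6 : W.c₆ = 0 := pow_eq_zero_iff two_ne_zero |>.1 (by
        linear_combination W.c₄ ^ 2 * hc - 1728 * hΔ + W.c_relation)
      simp only [c₄] at hc
      simp only [c₆] at hc6
      refine ⟨-W.b₂ / 12, ?_, ?_⟩ <;> field_simp
      · linear_combination (-8 : k) * hc6 + 0 * hc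
      · linear_combination -hc
  
/-- A cubic with `Δ = c₄ = 0` is `y² = x³` in suitable coordinates. -/
theorem exists_cuspidal (W : WeierstrassCurve k) (hΔ : W.Δ = 0) (hc : W.c₄ = 0) :
    ∃ r s t : k, W.a₁ + 2 * s = 0 ∧ W.a₂ - s * W.a₁ + 3 * r - s ^ 2 = 0 ∧ W.a₃ + r * W.a₁ + 2 * t = 0 ∧
      W.a₄ - s * W.a₃ + 2 * r * W.a₂ - (t + r * s) * W.a₁ + 3 * r ^ 2 - 2 * s * t = 0 ∧
      W.a₆ + r * W.a₄ + r ^ 2 * W.a₂ + r ^ 3 - t * W.a₃ - t ^ 2 - r * t * W.a₁ = 0 := by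
  obtain ⟨r, t, hF, hX, hY⟩ := exists_singular W hΔ hc
  obtain ⟨s, hs⟩ : ∃ s : k, s ^ 2 + W.a₁ * s - (W.a₂ + 3 * r) = 0 := by
    obtain ⟨s, hs⟩ := IsAlgClosed.exists_root
      (Polynomial.X ^ 2 + Polynomial.C W.a₁ * Polynomial.X - Polynomial.C (W.a₂ + 3 * r))
      (by rw [show (Polynomial.X ^ 2 + Polynomial.C W.a₁ * Polynomial.X - Polynomial.C (W.a₂ + 3 * r) : Polynomial k) =
        Polynomial.C (1 : k) * Polynomial.X ^ 2 + Polynomial.C W.a₁ * Polynomial.X + Polynomial.C (-(W.a₂ + 3 * r)) by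
          simp; ring, Polynomial.degree_quadratic one_ne_zero]; decide)
    exact ⟨s, by simpa using hs⟩
  have h3' : W.a₃ + r * W.a₁ + 2 * t = 0 := by linear_combination hY
  have h4' : W.a₄ - s * W.a₃ + 2 * r * W.a₂ - (t + r * s) * W.a₁ + 3 * r ^ 2 - 2 * s * t = 0 := by
    linear_combination -hX - s * hY
  have h6' : W.a₆ + r * W.a₄ + r ^ 2 * W.a₂ + r ^ 3 - t * W.a₃ - t ^ 2 - r * t * W.a₁ = 0 := by
    linear_combination -hF
  refine ⟨r, s, t, pow_eq_zero_iff four_ne_zero |>.1 ?_, by linear_combination -hs, h3', h4', h6'⟩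
  let C : VariableChange k := ⟨1, r, s, t⟩
  have hV : (C • W).c₄ = 0 := by rw [variableChange_c₄, hc, mul_zero]
  simp only [c₄, b₂, b₄, variableChange_a₁, variableChange_a₂, variableChange_a₃, variableChange_a₄, C,
    inv_one, Units.val_one] at hV
  rw [show W.a₂ - s * W.a₁ + 3 * r - s ^ 2 = 0 by linear_combination -hs] at hV
  rw [h3', h4'] at hV
  linear_combination hV

end Groth.Agent.CStk17.Weier
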