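import Mathlib.AlgebraicGeometry.EllipticCurve.Affine.Point

/-!
# Points under translations and shears
-/

set_option autoImplicit false

universe v

namespace Groth.Agent.CStk17.Weier

open WeierstrassCurve

variable {K : Type v} [Field K] {W : WeierstrassCurve K} {r s t : K}

theorem equation_iff_shift (x y : K) : W.toAffine.Equation x y ↔
    ((⟨1, r, s, t⟩ : VariableChange K) • W).toAffine.Equation (x - r) (y - s * (x - r) - t) := by
  rw [Affine.equation_iff', Affine.equation_iff']
  simp only [variableChange_a₁, variableChange_a₂, variableChange_a₃, variableChange_a₄, variableChange_a₆,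
    inv_one, Units.val_one, one_pow, one_mul]
  exact iff_of_eq (congrArg (· = 0) (by ring))

theorem negY_shift (x y : K) :
    ((⟨1, r, s, t⟩ : VariableChange K) • W).toAffine.negY (x - r) (y - s * (x - r) - t) =
      W.toAffine.negY x y - s * (x - r) - t := by
  simp only [Affine.negY, variableChange_a₁, variableChange_a₃, inv_one, Units.val_one, one_pow, one_mul]
  ring

theorem shift_cond (x₁ x₂ y₁ y₂ : K) : (x₁ - r = x₂ - r ∧ y₁ - s * (x₁ - r) - t =
    ((⟨1, r, s, t⟩ : VariableChange K) • W).toAffine.negY (x₂ - r) (y₂ - s * (x₂ - r) - t)) ↔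
      (x₁ = x₂ ∧ y₁ = W.toAffine.negY x₂ y₂) := by
  rw [negY_shift, sub_left_inj]
  refine and_congr_right fun h => ?_
  subst h
  rw [sub_left_inj, sub_left_inj]

theorem slope_shift [DecidableEq K] {x₁ x₂ y₁ y₂ : K} (h₁ : W.toAffine.Equation x₁ y₁)
    (h₂ : W.toAffine.Equation x₂ y₂) (h : ¬(x₁ = x₂ ∧ y₁ = W.toAffine.negY x₂ y₂)) :
    ((⟨1, r, s, t⟩ : VariableChange K) • W).toAffine.slope (x₁ - r) (x₂ - r) (y₁ - s * (x₁ - r) - t)
      (y₂ - s * (x₂ - r) - t) = W.toAffine.slope x₁ x₂ y₁ y₂ - s := by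
  by_cases hx : x₁ = x₂
  · have hy := Affine.Y_eq_of_Y_ne h₁ h₂ hx fun hy => h ⟨hx, hy⟩
    subst hx; subst hy
    have hd : y₁ - W.toAffine.negY x₁ y₁ ≠ 0 := sub_ne_zero.2 fun hy => h ⟨rfl, hy⟩
    rw [Affine.slope_of_Y_ne rfl (fun hy => h ((shift_cond x₁ x₁ y₁ y₁).1 ⟨rfl, hy⟩)),
      Affine.slope_of_Y_ne rfl (fun hy => h ⟨rfl, hy⟩), negY_shift]
    rw [show y₁ - s * (x₁ - r) - t - (W.toAffine.negY x₁ y₁ - s * (x₁ - r) - t) = y₁ - W.toAffine.negY x₁ y₁ by ring,
      eq_sub_iff_add_eq, div_add' _ _ _ hd]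
    congr 1
    simp only [Affine.negY, variableChange_a₁, variableChange_a₂, variableChange_a₄, inv_one, Units.val_one,
      one_pow, one_mul]
    ring
  · have hd : x₁ - x₂ ≠ 0 := sub_ne_zero.2 hx
    rw [Affine.slope_of_X_ne (fun h' => hx (sub_left_inj.1 h')), Affine.slope_of_X_ne hx]
    rw [eq_sub_iff_add_eq, show x₁ - r - (x₂ - r) = x₁ - x₂ by ring, div_add' _ _ _ hd]
    congr 1
    ring

theorem nonsingular_shift [W.IsElliptic] {x y : K} (h : W.toAffine.Nonsingular x y) :
    ((⟨1, r, s, t⟩ : VariableChange K) • W).toAffine.Nonsingular (x - r) (y - s * (x - r) - t) := by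
  rw [← Affine.equation_iff_nonsingular_of_Δ_ne_zero]
  · exact (equation_iff_shift x y).1 h.1
  · rw [variableChange_Δ]
    simpa using W.isUnit_Δ.ne_zero

/-- The map on points of a shift. -/
def shiftFun [W.IsElliptic] (r s t : K) :
    W.toAffine.Point → ((⟨1, r, s, t⟩ : VariableChange K) • W).toAffine.Point
  | .zero => 0
  | .some x y h => .some _ _ (nonsingular_shift h)

/-- The map on points of a shift, as a homomorphism. -/
noncomputable def shift [W.IsElliptic] [DecidableEq K] (r s t : K) :
    W.toAffine.Point →+ ((⟨1, r, s, t⟩ : VariableChange K) • W).toAffine.Point where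
  toFun := shiftFun r s t
  map_zero' := rfl
  map_add' P Q := by
    rcases P with _ | ⟨x₁, y₁, h₁⟩
    · rw [← Affine.Point.zero_def, zero_add]
      exact (zero_add _).symm
    rcases Q with _ | ⟨x₂, y₂, h₂⟩
    · rw [← Affine.Point.zero_def, add_zero]
      exact (add_zero _).symm
    show _ = Affine.Point.some _ _ (nonsingular_shift h₁) + Affine.Point.some _ _ (nonsingular_shift h₂)
    by_cases h : x₁ = x₂ ∧ y₁ = W.toAffine.negY x₂ y₂
    · rw [Affine.Point.add_of_Y_eq h.1 h.2]
      obtain ⟨e1, e2⟩ := (shift_cond (r := r) (s := s) (t := t) x₁ x₂ y₁ y₂).2 h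
      rw [Affine.Point.add_of_Y_eq e1 e2]
      rfl
    · rw [Affine.Point.add_some h, Affine.Point.add_some (fun h' => h ((shift_cond x₁ x₂ y₁ y₂).1 h'))]
      show Affine.Point.some _ _ _ = _
      rw [Affine.Point.some.injEq]
      have hs := slope_shift (r := r) (s := s) (t := t) h₁.1 h₂.1 h
      constructor
      · simp only [hs, Affine.addX, variableChange_a₁, variableChange_a₂, inv_one, Units.val_one, one_pow, one_mul]
        ring
      · simp only [hs, Affine.addY, Affine.negAddY, Affine.negY, Affine.addX, variableChange_a₁, variableChange_a₂,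
          variableChange_a₃, inv_one, Units.val_one, one_pow, one_mul]
        ring

theorem shift_some [W.IsElliptic] [DecidableEq K] {x y : K} (h : W.toAffine.Nonsingular x y) :
    shift r s t (.some x y h) = .some _ _ (nonsingular_shift h) := rfl

theorem shift_injective [W.IsElliptic] [DecidableEq K] : Function.Injective (shift (W := W) r s t) := by
  rw [injective_iff_map_eq_zero]
  rintro (_ | ⟨x, y, h⟩) h0
  · rfl
  · exact absurd h0 (Affine.Point.some_ne_zero _)

end Groth.Agent.CStk17.Weier
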