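import Groth.Agent.CStk17.Weier.Chart
import Groth.Agent.CStk17.Weier.Cusp
import Groth.Agent.CStk17.Weier.Transport
import Mathlib.AlgebraicGeometry.EllipticCurve.Reduction
import Mathlib.RingTheory.Valuation.ValuationRing

/-!
# A cuspidally reduced minimal cubic has no point of prime to `p` order greater than four
-/

set_option autoImplicit false
set_option linter.style.haveILetI false

universe u

namespace Groth.Agent.CStk17.Weier

open IsLocalRing WeierstrassCurve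

variable {R : Type u} [CommRing R] [IsDomain R] [IsDiscreteValuationRing R]
  {K : Type u} [Field K] [DecidableEq K] [Algebra R K] [IsFractionRing R K]

local notation "f" => algebraMap R K

theorem exists_of_integral {x : K} (h : IsIntegral R x) : ∃ a : R, f a = x :=
  IsIntegrallyClosed.isIntegral_iff.1 h

theorem integral_of_quadratic {x b c : K} (hb : IsIntegral R b) (hc : IsIntegral R c) (h : x ^ 2 + b * x + c = 0) :
    IsIntegral R x := by
  obtain ⟨b, rfl⟩ := exists_of_integral hb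
  obtain ⟨c, rfl⟩ := exists_of_integral hc
  refine ⟨Polynomial.X ^ 2 + (Polynomial.C b * Polynomial.X + Polynomial.C c), Polynomial.monic_X_pow_add ?_, ?_⟩
  · exact (Polynomial.degree_linear_le).trans_lt (by norm_num)
  · rw [← h]; simp [add_assoc]

variable {W : WeierstrassCurve R}

/-- Torsion prime to the residue characteristic meets the singular point. -/
theorem exists_mem_of_torsion (hW : Cuspidal W) {Q : (W.map f).toAffine.Point} {m : ℕ} (hm : IsUnit (m : R))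
    (hQ : m • Q = 0) (hQ0 : Q ≠ 0) :
    ∃ a ∈ maximalIdeal R, ∃ b ∈ maximalIdeal R, ∃ h, Q = .some (f a) (f b) h := by
  rcases Q with _ | ⟨x, y, hn⟩
  · exact absurd rfl hQ0
  have hno : ∀ z w : R, f z * y = -x → f w * y = -1 → False := fun z w hz hw =>
    hQ0 (Par.eq_zero hW (Q := .some x y hn) (z := z) ⟨w, hz, hw⟩ m hm hQ)
  have heq := (Affine.equation_iff _ _).1 hn.1
  simp only [map_a₁, map_a₂, map_a₃, map_a₄, map_a₆] at heq
  by_cases hx : ∃ a : R, f a = x
  · obtain ⟨a, rfl⟩ := hx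
    obtain ⟨b, rfl⟩ := exists_of_integral (integral_of_quadratic (x := y)
      (b := f (W.a₁ * a + W.a₃)) (c := f (-(a ^ 3 + W.a₂ * a ^ 2 + W.a₄ * a + W.a₆))) isIntegral_algebraMap
      isIntegral_algebraMap (by simp only [map_add, map_mul, map_neg, map_pow]; linear_combination heq))
    have hb : b ∈ maximalIdeal R := by
      by_contra hb
      obtain ⟨b, rfl⟩ := (notMem_maximalIdeal.1 hb)
      refine hno (-a * ((b⁻¹ : Rˣ) : R)) (-((b⁻¹ : Rˣ) : R)) ?_ ?_
      · rw [← map_mul, mul_assoc, Units.inv_mul, mul_one, map_neg]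
      · rw [← map_mul, neg_mul, Units.inv_mul, map_neg, map_one]
    have h3 : b ^ 2 + W.a₁ * a * b + W.a₃ * b = a ^ 3 + W.a₂ * a ^ 2 + W.a₄ * a + W.a₆ :=
      FaithfulSMul.algebraMap_injective R K (by simpa using heq)
    refine ⟨a, (inferInstance : (maximalIdeal R).IsPrime).mem_of_pow_mem 3 ?_, b, hb, hn, rfl⟩
    rw [show a ^ 3 = b * (b + W.a₁ * a + W.a₃) - (W.a₂ * a ^ 2 + W.a₄ * a + W.a₆) by linear_combination -h3]
    exact Ideal.sub_mem _ (Ideal.mul_mem_right _ _ hb) (Ideal.add_mem _ (Ideal.add_mem _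
      (Ideal.mul_mem_right _ _ hW.a₂) (Ideal.mul_mem_right _ _ hW.a₄)) hW.a₆)
  · exfalso
    obtain ⟨i, hi⟩ : ∃ i : R, f i = x⁻¹ := by
      rcases ValuationRing.isInteger_or_isInteger R x with h | h
      · exact absurd h hx
      · exact h
    have hx0 : x ≠ 0 := fun h => hx ⟨0, by rw [map_zero, h]⟩
    have hix : f i * x = 1 := by rw [hi, inv_mul_cancel₀ hx0]
    have him : i ∈ maximalIdeal R := by
      by_contra h
      obtain ⟨i, rfl⟩ := notMem_maximalIdeal.1 h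
      refine hx ⟨((i⁻¹ : Rˣ) : R), mul_left_cancel₀ (b := f ((i⁻¹ : Rˣ) : R)) (i.isUnit.map f).ne_zero ?_⟩
      rw [← map_mul, Units.mul_inv, map_one, hix]
    rcases ValuationRing.isInteger_or_isInteger R (y / x) with ⟨t, ht⟩ | ⟨t, ht⟩
    · have h1 : f (i * (t ^ 2 + W.a₁ * t + W.a₃ * t * i)) = f (1 + (W.a₂ * i + W.a₄ * i ^ 2 + W.a₆ * i ^ 3)) := by
        simp only [map_add, map_mul, map_pow, map_one, ht, hi]
        field_simp
        linear_combination heq
      refine (maximalIdeal.isMaximal R).ne_top ((Ideal.eq_top_iff_one _).2 ?_)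
      have h2 := FaithfulSMul.algebraMap_injective R K h1
      rw [show (1 : R) = i * (t ^ 2 + W.a₁ * t + W.a₃ * t * i) - (W.a₂ * i + W.a₄ * i ^ 2 + W.a₆ * i ^ 3) by
        linear_combination -h2]
      exact Ideal.sub_mem _ (Ideal.mul_mem_right _ _ him) (Ideal.add_mem _ (Ideal.add_mem _
        (Ideal.mul_mem_left _ _ him) (Ideal.mul_mem_left _ _ (Ideal.pow_mem_of_mem _ him 2 two_pos)))
        (Ideal.mul_mem_left _ _ (Ideal.pow_mem_of_mem _ him 3 (by norm_num))))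
    · have hy : y ≠ 0 := fun h => by
        subst h
        have h1 : f (1 + (W.a₂ * i + W.a₄ * i ^ 2 + W.a₆ * i ^ 3)) = f 0 := by
          simp only [map_add, map_mul, map_pow, map_one, map_zero, hi]
          field_simp
          linear_combination -heq
        refine (maximalIdeal.isMaximal R).ne_top ((Ideal.eq_top_iff_one _).2 ?_)
        have h2 := FaithfulSMul.algebraMap_injective R K h1
        rw [show (1 : R) = -(W.a₂ * i + W.a₄ * i ^ 2 + W.a₆ * i ^ 3) by linear_combination h2]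
        exact Ideal.neg_mem_iff _ |>.2 (Ideal.add_mem _ (Ideal.add_mem _
          (Ideal.mul_mem_left _ _ him) (Ideal.mul_mem_left _ _ (Ideal.pow_mem_of_mem _ him 2 two_pos)))
          (Ideal.mul_mem_left _ _ (Ideal.pow_mem_of_mem _ him 3 (by norm_num))))
      refine hno (-t) (-(t * i)) ?_ ?_ <;> simp only [map_neg, map_mul, ht, hi] <;> field_simp

/-- A point and its multiples after a translation or a shear. -/
theorem exists_shifted {V V' : WeierstrassCurve K} [V.IsElliptic] {r s t : K}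
    (e : V' = (⟨1, r, s, t⟩ : VariableChange K) • V) (P : V.toAffine.Point) :
    ∃ Q : V'.toAffine.Point, (∀ k : ℕ, k • Q = 0 → k • P = 0) ∧
      ∀ (k : ℕ) (x y : K) (h), k • P = .some x y h →
        ∃ h', k • Q = .some (x - r) (y - s * (x - r) - t) h' := by
  subst e
  refine ⟨shift r s t P, fun k hk => shift_injective (by rw [map_nsmul, map_zero]; exact hk), ?_⟩
  intro k x y h e
  exact ⟨nonsingular_shift h, by rw [← map_nsmul, e, shift_some]⟩

theorem map_shift (W : WeierstrassCurve R) (r s t : R) :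
    ((⟨1, r, s, t⟩ : VariableChange R) • W).map f = (⟨1, f r, f s, f t⟩ : VariableChange K) • W.map f := by
  rw [← map_variableChange]
  congr 1
  ext <;> simp [VariableChange.map]

theorem isElliptic_shift (W : WeierstrassCurve R) (r s t : R) [(W.map f).IsElliptic] :
    (((⟨1, r, s, t⟩ : VariableChange R) • W).map f).IsElliptic := by
  rw [map_shift]; infer_instance

/-- Moving the point to the origin and its tangent to the axis, then scaling: the equation was not minimal. -/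
theorem exists_scaling (hW : Cuspidal W) [(W.map f).IsElliptic] {P : (W.map f).toAffine.Point} {n : ℕ}
    (hn : IsUnit (n : R)) (hnP : n • P = 0) (hP : ∀ k ∈ Finset.Icc 1 4, k • P ≠ 0) {π : R} (hπ : Irreducible π) :
    ∃ (C : VariableChange K) (J : WeierstrassCurve R), (C.u : K) = f π ∧ C • W.map f = J.map f := by
  have hm : maximalIdeal R = Ideal.span {π} := hπ.maximalIdeal_eq
  have inj := FaithfulSMul.algebraMap_injective R K
  have hsing : ∀ k ∈ Finset.Icc 1 4, ∃ a ∈ maximalIdeal R, ∃ b ∈ maximalIdeal R, ∃ h, k • P = .some (f a) (f b) h :=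
    fun k hk => exists_mem_of_torsion hW hn (by rw [← mul_smul, mul_comm, mul_smul, hnP, smul_zero]) (hP k hk)
  obtain ⟨a, ha, b, hb, h₁, e₁⟩ := hsing 1 (by simp)
  rw [one_smul] at e₁
  -- the point at the origin
  obtain ⟨W₂, hW₂d⟩ : ∃ W₂ : WeierstrassCurve R, W₂ = (⟨1, a, 0, b⟩ : VariableChange R) • W := ⟨_, rfl⟩
  have hW₂ : W₂.map f = (⟨1, f a, 0, f b⟩ : VariableChange K) • W.map f := by
    rw [hW₂d, map_shift, map_zero]
  haveI : (W₂.map f).IsElliptic := hW₂d ▸ isElliptic_shift W a 0 b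
  have h6 : W₂.a₆ = 0 := by
    apply inj
    have := (Affine.equation_iff _ _).1 h₁.1
    simp only [map_a₁, map_a₂, map_a₃, map_a₄, map_a₆] at this
    simp only [hW₂d, variableChange_a₆, inv_one, Units.val_one, one_pow, one_mul, map_sub, map_add, map_mul, map_pow,
      map_zero]
    linear_combination -this
  have hcW₂ : Cuspidal W₂ := by
    constructor <;> simp only [hW₂d, variableChange_a₁, variableChange_a₂, variableChange_a₃, variableChange_a₄,
      inv_one, Units.val_one, one_pow, one_mul, zero_mul, mul_zero, sub_zero, add_zero,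
      ne_eq, OfNat.ofNat_ne_zero, not_false_eq_true, zero_pow]
    · exact hW.a₁
    · exact Ideal.add_mem _ hW.a₂ (Ideal.mul_mem_left _ _ ha)
    · exact Ideal.add_mem _ (Ideal.add_mem _ hW.a₃ (Ideal.mul_mem_left _ _ hW.a₁)) (Ideal.mul_mem_left _ _ hb)
    · exact Ideal.add_mem _ (Ideal.sub_mem _ (Ideal.add_mem _ hW.a₄ (Ideal.mul_mem_left _ _ hW.a₂))
        (Ideal.mul_mem_left _ _ hW.a₁)) (Ideal.mul_mem_left _ _ (Ideal.pow_mem_of_mem _ ha 2 two_pos))
    · rw [← hW₂d, h6]; exact zero_mem _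
  have A₁ : (W₂.map f).toAffine.a₁ = f W₂.a₁ := map_a₁ _ _
  have A₂ : (W₂.map f).toAffine.a₂ = f W₂.a₂ := map_a₂ _ _
  have A₃ : (W₂.map f).toAffine.a₃ = f W₂.a₃ := map_a₃ _ _
  have A₄ : (W₂.map f).toAffine.a₄ = f W₂.a₄ := map_a₄ _ _
  -- coordinates of the multiples in the translated equation
  obtain ⟨P₂, hP₂0, hP₂s⟩ := exists_shifted hW₂ P
  have hV : ∀ k ∈ Finset.Icc 1 4, ∃ u ∈ maximalIdeal R, ∃ v : K, ∃ h, k • P₂ = .some (f u) v h := by
    intro k hk
    obtain ⟨u, hu, v, -, h, e⟩ := hsing k hk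
    obtain ⟨h', e'⟩ := hP₂s k _ _ h e
    have he : f u - f a = f (u - a) := (map_sub f u a).symm
    refine ⟨u - a, Ideal.sub_mem _ hu ha, _, he ▸ h', ?_⟩
    rw [e']
    simp only [Affine.Point.some.injEq, he, true_and]
  obtain ⟨h0, eP⟩ : ∃ h, P₂ = .some (0 : K) 0 h := by
    obtain ⟨h', e'⟩ := hP₂s 1 _ _ h₁ (by rw [one_smul, e₁])
    rw [one_smul] at e'
    refine ⟨by simpa using h', ?_⟩
    rw [e']; simp
  have hk : ∀ k ∈ Finset.Icc 1 4, k • P₂ ≠ 0 := fun k hk' h => hP k hk' (hP₂0 k h)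
  -- the tangent at the origin
  have ha3 : W₂.a₃ ≠ 0 := fun h3 => hk 2 (by simp) (by
    rw [two_nsmul, eP]
    exact Affine.Point.add_self_of_Y_eq (by simp [-map_a₁, -map_a₂, -map_a₃, -map_a₄, Affine.negY, A₁, A₃, h3]))
  have hy0 : (0 : K) ≠ (W₂.map f).toAffine.negY 0 0 := by
    simpa [-map_a₁, -map_a₂, -map_a₃, -map_a₄, Affine.negY, A₁, A₃] using ha3
  have hfa3 : f W₂.a₃ ≠ 0 := fun h => ha3 (inj (by rw [h, map_zero]))
  obtain ⟨l, hl⟩ : ∃ l : K, l = f W₂.a₄ / f W₂.a₃ := ⟨_, rfl⟩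
  have hs1 : (W₂.map f).toAffine.slope 0 0 0 0 = l := by
    rw [Affine.slope_of_Y_ne rfl hy0]
    simp [-map_a₁, -map_a₂, -map_a₃, -map_a₄, hl, Affine.negY, A₁, A₂, A₃, A₄]
  obtain ⟨u₂, hu₂, v₂, h₂, e₂⟩ := hV 2 (by simp)
  rw [two_nsmul, eP, Affine.Point.add_self_of_Y_ne hy0, Affine.Point.some.injEq, hs1] at e₂
  obtain ⟨ex₂, -⟩ := e₂
  simp only [Affine.addX, A₁, A₂] at ex₂
  obtain ⟨lam, hlam⟩ : ∃ lam : R, f lam = l := exists_of_integral (integral_of_quadratic (x := l)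
    (b := f W₂.a₁) (c := f (-(W₂.a₂ + u₂))) isIntegral_algebraMap isIntegral_algebraMap
    (by rw [map_neg, map_add]; linear_combination ex₂))
  have hlm : lam ∈ maximalIdeal R := by
    refine (inferInstance : (maximalIdeal R).IsPrime).mem_of_pow_mem 2 ?_
    rw [show lam ^ 2 = u₂ + W₂.a₂ - W₂.a₁ * lam from inj (by
      simp only [map_pow, map_sub, map_add, map_mul, hlam]; linear_combination ex₂)]
    exact Ideal.sub_mem _ (Ideal.add_mem _ hu₂ hcW₂.a₂) (Ideal.mul_mem_right _ _ hcW₂.a₁)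
  -- the tangent as the axis
  obtain ⟨W₃, hW₃d⟩ : ∃ W₃ : WeierstrassCurve R, W₃ = (⟨1, 0, lam, 0⟩ : VariableChange R) • W₂ := ⟨_, rfl⟩
  have hW₃ : W₃.map f = (⟨1, 0, f lam, 0⟩ : VariableChange K) • W₂.map f := by
    rw [hW₃d, map_shift, map_zero]
  haveI : (W₃.map f).IsElliptic := hW₃d ▸ isElliptic_shift W₂ 0 lam 0
  obtain ⟨Q, hQ0, hQs⟩ := exists_shifted hW₃ P₂
  have hV₃ : ∀ k ∈ Finset.Icc 1 4, ∃ u ∈ maximalIdeal R, ∃ v : K, ∃ h, k • Q = .some (f u) v h := by
    intro k hk'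
    obtain ⟨u, hu, v, h, e⟩ := hV k hk'
    obtain ⟨h', e'⟩ := hQs k _ _ h e
    rw [sub_zero] at h'
    refine ⟨u, hu, _, h', ?_⟩
    rw [e']
    simp only [Affine.Point.some.injEq, sub_zero, and_true]
  have hkQ : ∀ k ∈ Finset.Icc 1 4, k • Q ≠ 0 := fun k hk' h => hk k hk' (hQ0 k h)
  obtain ⟨hq0, eQ⟩ : ∃ h, Q = .some (0 : K) 0 h := by
    obtain ⟨h', e'⟩ := hQs 1 _ _ h0 (by rw [one_smul, eP])
    rw [one_smul] at e'
    refine ⟨by simpa using h', ?_⟩
    rw [e']; simp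
  obtain ⟨c₁, hc₁⟩ : ∃ c, c = W₃.a₁ := ⟨_, rfl⟩
  obtain ⟨c₂, hc₂⟩ : ∃ c, c = W₃.a₂ := ⟨_, rfl⟩
  obtain ⟨c₃, hc₃⟩ : ∃ c, c = W₃.a₃ := ⟨_, rfl⟩
  have hc4 : W₃.a₄ = 0 := by
    apply inj
    simp only [hW₃d, variableChange_a₄, inv_one, Units.val_one, one_pow, one_mul, map_sub, map_add, map_mul, map_zero,
      zero_mul, mul_zero, add_zero, sub_zero, zero_pow, ne_eq, OfNat.ofNat_ne_zero, not_false_eq_true, hlam, hl]
    field_simp; ring
  have hc6 : W₃.a₆ = 0 := by simp [hW₃d, variableChange_a₆, h6]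
  have B₁ : (W₃.map f).toAffine.a₁ = f c₁ := by rw [hc₁]; exact map_a₁ _ _
  have B₂ : (W₃.map f).toAffine.a₂ = f c₂ := by rw [hc₂]; exact map_a₂ _ _
  have B₃ : (W₃.map f).toAffine.a₃ = f c₃ := by rw [hc₃]; exact map_a₃ _ _
  have B₄ : (W₃.map f).toAffine.a₄ = 0 := by
    rw [show (W₃.map f).toAffine.a₄ = f W₃.a₄ from map_a₄ _ _, hc4, map_zero]
  have hc3 : c₃ = W₂.a₃ := by simp [hc₃, hW₃d, variableChange_a₃]
  have hc1m : c₁ ∈ maximalIdeal R := by
    simp only [hc₁, hW₃d, variableChange_a₁, inv_one, Units.val_one, one_mul]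
    exact Ideal.add_mem _ hcW₂.a₁ (Ideal.mul_mem_left _ _ hlm)
  have hc2m : c₂ ∈ maximalIdeal R := by
    simp only [hc₂, hW₃d, variableChange_a₂, inv_one, Units.val_one, one_pow, one_mul, mul_zero, add_zero]
    exact Ideal.sub_mem _ (Ideal.sub_mem _ hcW₂.a₂ (Ideal.mul_mem_right _ _ hlm))
      (Ideal.pow_mem_of_mem _ hlm 2 two_pos)
  -- twice the point
  have hy1 : (0 : K) ≠ (W₃.map f).toAffine.negY 0 0 := by
    simpa [-map_a₁, -map_a₂, -map_a₃, -map_a₄, Affine.negY, B₁, B₃, hc3] using ha3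
  have hs2 : (W₃.map f).toAffine.slope 0 0 0 0 = 0 := by
    rw [Affine.slope_of_Y_ne rfl hy1]
    simp [-map_a₁, -map_a₂, -map_a₃, -map_a₄, Affine.negY, B₁, B₂, B₄]
  obtain ⟨x₂, hx₂⟩ : ∃ x, x = -f c₂ := ⟨_, rfl⟩
  obtain ⟨y₂, hy₂⟩ : ∃ y, y = f c₁ * f c₂ - f c₃ := ⟨_, rfl⟩
  obtain ⟨n₂, E₂⟩ : ∃ h, 2 • Q = .some x₂ y₂ h := by
    have e : 2 • Q = .some _ _ (Affine.nonsingular_add hq0 hq0 fun hxy => hy1 hxy.right) := by
      rw [two_nsmul, eQ, Affine.Point.add_self_of_Y_ne hy1]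
    have ex : (W₃.map f).toAffine.addX 0 0 ((W₃.map f).toAffine.slope 0 0 0 0) = x₂ := by
      simp [-map_a₁, -map_a₂, -map_a₃, -map_a₄, hs2, Affine.addX, B₁, B₂, hx₂]
    have ey : (W₃.map f).toAffine.addY 0 0 0 ((W₃.map f).toAffine.slope 0 0 0 0) = y₂ := by
      simp [-map_a₁, -map_a₂, -map_a₃, -map_a₄, hs2, Affine.addY, Affine.negAddY, Affine.negY, Affine.addX, B₁, B₂, B₃, hy₂]
    exact ⟨ex ▸ ey ▸ Affine.nonsingular_add hq0 hq0 fun hxy => hy1 hxy.right, by
      rw [e, Affine.Point.some.injEq]; exact ⟨ex, ey⟩⟩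
  have hc20 : c₂ ≠ 0 := fun h2 => hkQ 3 (by simp) (by
    rw [show 3 • Q = 2 • Q + Q by rw [succ_nsmul], E₂, eQ]
    exact Affine.Point.add_of_Y_eq (by simp [hx₂, h2]) (by simp [-map_a₁, -map_a₂, -map_a₃, -map_a₄, hy₂, h2, Affine.negY, B₁, B₃]))
  have hfc2 : f c₂ ≠ 0 := fun h => hc20 (inj (by rw [h, map_zero]))
  have hx20 : x₂ ≠ 0 := by rw [hx₂]; exact neg_ne_zero.2 hfc2
  -- three times the point
  obtain ⟨u₃, hu₃, v₃, h₃, E₃⟩ := hV₃ 3 (by simp)
  rw [show 3 • Q = 2 • Q + Q by rw [succ_nsmul], E₂, eQ, Affine.Point.add_of_X_ne hx20,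
    Affine.Point.some.injEq] at E₃
  obtain ⟨ex₃, -⟩ := E₃
  rw [Affine.slope_of_X_ne hx20] at ex₃
  simp only [Affine.addX, B₁, B₂, sub_zero] at ex₃
  obtain ⟨μ, hμ⟩ : ∃ μ, μ = y₂ / x₂ := ⟨_, rfl⟩
  rw [← hμ, hx₂] at ex₃
  obtain ⟨μ₀, hμ₀⟩ : ∃ μ₀ : R, f μ₀ = μ := exists_of_integral (integral_of_quadratic (x := μ)
    (b := f c₁) (c := f (-u₃)) isIntegral_algebraMap isIntegral_algebraMap
    (by rw [map_neg]; linear_combination ex₃))
  have hμm : μ₀ ∈ maximalIdeal R := by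
    refine (inferInstance : (maximalIdeal R).IsPrime).mem_of_pow_mem 2 ?_
    rw [show μ₀ ^ 2 = u₃ - c₁ * μ₀ from inj (by
      simp only [map_pow, map_sub, map_mul, hμ₀]; linear_combination ex₃)]
    exact Ideal.sub_mem _ hu₃ (Ideal.mul_mem_right _ _ hc1m)
  have hu : c₃ = c₂ * (μ₀ + c₁) := inj (by
    simp only [map_mul, map_add, hμ₀, hμ, hx₂, hy₂]; field_simp; ring)
  -- four times the point
  have hy20 : y₂ ≠ 0 := fun hy => hkQ 4 (by simp) (by
    rw [show 4 • Q = 2 • Q + 2 • Q by rw [← add_nsmul], E₂]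
    exact Affine.Point.add_self_of_Y_eq (by
      simp only [Affine.negY, B₁, B₃, hx₂]
      linear_combination hy + hy₂))
  have hd : y₂ - (W₃.map f).toAffine.negY x₂ y₂ = y₂ := by
    simp only [Affine.negY, B₁, B₃, hx₂]; linear_combination hy₂
  have hyn : y₂ ≠ (W₃.map f).toAffine.negY x₂ y₂ := fun h => hy20 (by rw [← hd, ← h, sub_self])
  obtain ⟨u₄, hu₄, v₄, h₄, E₄⟩ := hV₃ 4 (by simp)
  rw [show 4 • Q = 2 • Q + 2 • Q by rw [← add_nsmul], E₂, Affine.Point.add_self_of_Y_ne hyn,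
    Affine.Point.some.injEq, Affine.slope_of_Y_ne rfl hyn] at E₄
  obtain ⟨ex₄, -⟩ := E₄
  obtain ⟨rr, hrr⟩ : ∃ rr, rr = f c₂ ^ 2 / y₂ := ⟨_, rfl⟩
  simp only [Affine.addX, hd, B₁, B₂, B₄] at ex₄
  have hsl : (3 * x₂ ^ 2 + 2 * f c₂ * x₂ + 0 - f c₁ * y₂) / y₂ = rr - f c₁ := by
    rw [hrr, eq_sub_iff_add_eq, div_add' _ _ _ hy20]
    congr 1
    rw [hx₂]; ring
  rw [hsl, hx₂] at ex₄
  obtain ⟨r₀, hr₀⟩ : ∃ r₀ : R, f r₀ = rr := exists_of_integral (integral_of_quadratic (x := rr)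
    (b := f (-c₁)) (c := f (c₂ - u₄)) isIntegral_algebraMap isIntegral_algebraMap
    (by rw [map_neg, map_sub]; linear_combination ex₄))
  have hrm : r₀ ∈ maximalIdeal R := by
    refine (inferInstance : (maximalIdeal R).IsPrime).mem_of_pow_mem 2 ?_
    rw [show r₀ ^ 2 = u₄ + c₁ * r₀ - c₂ from inj (by
      simp only [map_pow, map_sub, map_add, map_mul, hr₀]; linear_combination ex₄)]
    exact Ideal.sub_mem _ (Ideal.add_mem _ hu₄ (Ideal.mul_mem_right _ _ hc1m)) hc2m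
  have hc2eq : c₂ = -(r₀ * μ₀) := by
    have h : c₂ * c₂ = c₂ * (-(r₀ * μ₀)) := inj (by
      simp only [map_mul, map_neg, hr₀, hμ₀, hrr, hμ, hx₂]; field_simp)
    exact mul_left_cancel₀ hc20 h
  -- the scaling
  rw [hm] at hc1m hrm hμm
  obtain ⟨α, hα⟩ := Ideal.mem_span_singleton.1 hc1m
  obtain ⟨β, hβ⟩ := Ideal.mem_span_singleton.1 hrm
  obtain ⟨γ, hγ⟩ := Ideal.mem_span_singleton.1 hμm
  have hfπ : f π ≠ 0 := fun h => hπ.ne_zero (inj (by rw [h, map_zero]))
  refine ⟨(⟨Units.mk0 (f π) hfπ, 0, 0, 0⟩ : VariableChange K) * (⟨1, 0, f lam, 0⟩ * ⟨1, f a, 0, f b⟩),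
    ⟨α, -(β * γ), -(β * γ) * (γ + α), 0, 0⟩, ?_, ?_⟩
  · simp [VariableChange.mul_def]
  · rw [mul_smul, mul_smul, ← hW₂, ← hW₃]
    ext <;> simp only [variableChange_a₁, variableChange_a₂, variableChange_a₃, variableChange_a₄,
      variableChange_a₆, map_a₁, map_a₂, map_a₃, map_a₄, map_a₆, ← hc₁, ← hc₂, ← hc₃, hc4, hc6, hu, hc2eq,
      hα, hβ, hγ, Units.val_inv_eq_inv_val, Units.val_mk0, map_mul, map_add, map_neg, map_zero] <;> field_simp <;> ring

/-- No equation with `Δ` and `c₄` in the maximal ideal that has such a point is minimal. -/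
theorem not_isMinimal [IsAlgClosed (ResidueField R)] (V : WeierstrassCurve K) [V.IsElliptic]
    [WeierstrassCurve.IsMinimal R V] (hadd : V.HasAdditiveReduction R) (n : ℕ) (hn : 4 < n)
    (hk : (n : ResidueField R) ≠ 0) (P : V.toAffine.Point) (hP : addOrderOf P = n) : False := by
  set I := integralModel R V with hI
  have hVI : V = I.map f := (baseChange_integralModel_eq R V).symm
  have hmem : ∀ (x : R), IsDedekindDomain.HeightOneSpectrum.valuation K
      (IsDiscreteValuationRing.maximalIdeal R) (f x) < 1 → residue R x = 0 := fun x hx =>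
    (residue_eq_zero_iff x).2 ((IsDedekindDomain.HeightOneSpectrum.valuation_lt_one_iff_mem _ _).1 hx)
  have hΔ : (I.map (residue R)).Δ = 0 := by
    rw [map_Δ]; exact hmem _ (by have := hadd.badReduction; rwa [hVI, map_Δ] at this)
  have hc : (I.map (residue R)).c₄ = 0 := by
    rw [map_c₄]; exact hmem _ (by have := hadd.additiveReduction; rwa [hVI, map_c₄] at this)
  obtain ⟨r, s, t, h1, h2, h3, h4, h6⟩ := exists_cuspidal _ hΔ hc
  obtain ⟨r, rfl⟩ := residue_surjective r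
  obtain ⟨s, rfl⟩ := residue_surjective s
  obtain ⟨t, rfl⟩ := residue_surjective t
  simp only [map_a₁, map_a₂, map_a₃, map_a₄, map_a₆] at h1 h2 h3 h4 h6
  let W : WeierstrassCurve R := (⟨1, r, s, t⟩ : VariableChange R) • I
  have hW : Cuspidal W := by
    constructor <;> rw [← residue_eq_zero_iff] <;> simp only [W, variableChange_a₁, variableChange_a₂,
      variableChange_a₃, variableChange_a₄, variableChange_a₆, inv_one, Units.val_one, one_pow, one_mul, map_add,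
      map_sub, map_mul, map_pow, map_ofNat]
    exacts [h1, h2, h3, h4, h6]
  have hWV : (⟨1, f r, f s, f t⟩ : VariableChange K) • V = W.map f := by
    rw [hVI]
    show _ = ((⟨1, r, s, t⟩ : VariableChange R) • I).map f
    rw [← map_variableChange]
    congr 1
    ext <;> simp [VariableChange.map]
  haveI : (W.map f).IsElliptic := hWV ▸ inferInstance
  have hpts : ∀ (U U' : WeierstrassCurve K), U = U' → ∀ Q : U.toAffine.Point, ∃ Q' : U'.toAffine.Point,
      addOrderOf Q' = addOrderOf Q := fun U U' e Q => by subst e; exact ⟨Q, rfl⟩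
  obtain ⟨P₁, hP₁⟩ := hpts _ _ hWV (shift (W := V) (f r) (f s) (f t) P)
  rw [addOrderOf_injective _ shift_injective, hP] at hP₁
  have hnu : IsUnit (n : R) := (residue_ne_zero_iff_isUnit _).1 (by rwa [map_natCast])
  obtain ⟨π, hπ⟩ := IsDiscreteValuationRing.exists_irreducible R
  have hk4 : ∀ k ∈ Finset.Icc 1 4, k • P₁ ≠ 0 := fun k hk' h => by
    rw [Finset.mem_Icc] at hk'
    have := Nat.le_of_dvd (by omega) (hP₁ ▸ addOrderOf_dvd_of_nsmul_eq_zero h)
    omega
  obtain ⟨C, J, hCu, hCJ⟩ := exists_scaling hW hnu (hP₁ ▸ addOrderOf_nsmul_eq_zero P₁) hk4 hπ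
  let C' := C * (⟨1, f r, f s, f t⟩ : VariableChange K)
  have hC'V : C' • V = J.map f := by rw [mul_smul, hWV, hCJ]
  haveI hint : WeierstrassCurve.IsIntegral R (C' • V) := ⟨⟨J, hC'V⟩⟩
  haveI hint1 : WeierstrassCurve.IsIntegral R ((1 : VariableChange K) • V) := by rw [one_smul]; infer_instance
  set v := IsDedekindDomain.HeightOneSpectrum.valuation K (IsDiscreteValuationRing.maximalIdeal R)
  have hπv : v (f π) < 1 :=
    (IsDedekindDomain.HeightOneSpectrum.valuation_lt_one_iff_mem _ _).2 (show π ∈ maximalIdeal R from hπ.not_isUnit)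
  have hΔ0 : V.Δ ≠ 0 := V.isUnit_Δ.ne_zero
  have hCu' : (C'.u : K) = f π := by simp [C', VariableChange.mul_def, hCu]
  have hlt : v V.Δ < v (C' • V).Δ := by
    rw [variableChange_Δ, map_mul, map_pow, Units.val_inv_eq_inv_val, hCu', map_inv₀]
    refine lt_mul_of_one_lt_left (pos_of_ne_zero ((map_ne_zero v).2 hΔ0)) ?_
    refine one_lt_pow₀ ?_ (by norm_num)
    exact (one_lt_inv₀ (pos_of_ne_zero ((map_ne_zero v).2 fun h => hπ.ne_zero (FaithfulSMul.algebraMap_injective R K (by rw [h, map_zero]))))).2 hπv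
  have hle : valuation_Δ_aux R ((1 : VariableChange K) • V) ≤ valuation_Δ_aux R (C' • V) := by
    rw [← Subtype.coe_le_coe, valuation_Δ_aux_eq_of_isIntegral, valuation_Δ_aux_eq_of_isIntegral, one_smul]
    exact hlt.le
  have h := (WeierstrassCurve.IsMinimal.val_Δ_maximal (R := R) (W := V)).2 hint hle
  rw [← Subtype.coe_le_coe, valuation_Δ_aux_eq_of_isIntegral, valuation_Δ_aux_eq_of_isIntegral, one_smul] at h
  exact hlt.not_ge h

end Groth.Agent.CStk17.Weier
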